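import Mathlib
import Cfsg.Agent.Lead.SpFusB

set_option autoImplicit false

/-!
# Block triangular subgroups of the symplectic group and their radicals (helper3, for `S2316`)

For a labelling `b` of the basis by natural numbers, `h3_PB b` is the subgroup of the symplectic
matrices which are block triangular for `b`, and `h3_RB b` the subgroup of those whose diagonal
blocks are identity matrices; the second is normalised by the first.
-/

namespace Cfsg.Agent.SpUni

open Matrix Cfsg.Agent.Lead.SpFus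

section generic

variable {ι : Type*} [Fintype ι] [DecidableEq ι] {K : Type*} [CommRing K]

/-- The diagonal blocks of a matrix, for the labelling `b`. -/
def h3_dg (b : ι → ℕ) (M : Matrix ι ι K) : Matrix ι ι K :=
  Matrix.of fun i j => if b i = b j then M i j else 0

theorem h3_dg_apply (b : ι → ℕ) (M : Matrix ι ι K) (i j : ι) :
    h3_dg b M i j = if b i = b j then M i j else 0 := rfl

theorem h3_dg_one (b : ι → ℕ) : h3_dg b (1 : Matrix ι ι K) = 1 := by
  ext i j
  rw [h3_dg_apply]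
  by_cases hij : i = j
  · subst hij
    rw [if_pos rfl]
  · rw [one_apply_ne hij]
    split_ifs <;> rfl

theorem h3_dg_mul (b : ι → ℕ) {M N : Matrix ι ι K} (hM : M.BlockTriangular b)
    (hN : N.BlockTriangular b) : h3_dg b (M * N) = h3_dg b M * h3_dg b N := by
  ext i j
  rw [h3_dg_apply, Matrix.mul_apply, Matrix.mul_apply]
  by_cases hij : b i = b j
  · rw [if_pos hij]
    apply Finset.sum_congr rfl
    intro l _
    rw [h3_dg_apply, h3_dg_apply]
    by_cases hl : b i = b l
    · rw [if_pos hl, if_pos (hl.symm.trans hij)]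
    · rw [if_neg hl, zero_mul]
      rcases lt_or_gt_of_ne hl with h | h
      · rw [hN (show b j < b l by rw [← hij]; exact h), mul_zero]
      · rw [hM h, zero_mul]
  · rw [if_neg hij]
    symm
    apply Finset.sum_eq_zero
    intro l _
    rw [h3_dg_apply, h3_dg_apply]
    by_cases hl : b i = b l
    · rw [if_neg (fun e => hij (hl.trans e)), mul_zero]
    · rw [if_neg hl, zero_mul]

end generic

variable {K : Type*} [Field K] {m : ℕ}

theorem h3_bt_inv (b : Fin m ⊕ Fin m → ℕ) {g : symplecticGroup (Fin m) K}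
    (h : (g : Matrix (Fin m ⊕ Fin m) (Fin m ⊕ Fin m) K).BlockTriangular b) :
    ((g⁻¹ : symplecticGroup (Fin m) K) :
      Matrix (Fin m ⊕ Fin m) (Fin m ⊕ Fin m) K).BlockTriangular b := by
  have hdet : IsUnit (g : Matrix (Fin m ⊕ Fin m) (Fin m ⊕ Fin m) K).det :=
    SymplecticGroup.symplectic_det g.2
  have : Invertible (g : Matrix (Fin m ⊕ Fin m) (Fin m ⊕ Fin m) K) :=
    Matrix.invertibleOfIsUnitDet _ hdet
  rw [SymplecticGroup.coe_inv']
  exact Matrix.blockTriangular_inv_of_blockTriangular h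

/-- The symplectic matrices which are block triangular for `b`. -/
def h3_PB (K : Type*) [Field K] {m : ℕ} (b : Fin m ⊕ Fin m → ℕ) :
    Subgroup (symplecticGroup (Fin m) K) where
  carrier := {g | (g : Matrix (Fin m ⊕ Fin m) (Fin m ⊕ Fin m) K).BlockTriangular b}
  mul_mem' := by
    intro x y hx hy
    exact BlockTriangular.mul hx hy
  one_mem' := blockTriangular_one
  inv_mem' := by
    intro x hx
    exact h3_bt_inv b hx

theorem h3_mem_PB {b : Fin m ⊕ Fin m → ℕ} {g : symplecticGroup (Fin m) K} :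
    g ∈ h3_PB K b ↔
      (g : Matrix (Fin m ⊕ Fin m) (Fin m ⊕ Fin m) K).BlockTriangular b := Iff.rfl

theorem h3_coe_mul (x y : symplecticGroup (Fin m) K) :
    ((x * y : symplecticGroup (Fin m) K) : Matrix (Fin m ⊕ Fin m) (Fin m ⊕ Fin m) K) =
      (x : Matrix (Fin m ⊕ Fin m) (Fin m ⊕ Fin m) K) *
        (y : Matrix (Fin m ⊕ Fin m) (Fin m ⊕ Fin m) K) := rfl

theorem h3_coe_one :
    ((1 : symplecticGroup (Fin m) K) : Matrix (Fin m ⊕ Fin m) (Fin m ⊕ Fin m) K) = 1 := rfl

/-- The block triangular symplectic matrices with identity diagonal blocks. -/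
def h3_RB (K : Type*) [Field K] {m : ℕ} (b : Fin m ⊕ Fin m → ℕ) :
    Subgroup (symplecticGroup (Fin m) K) where
  carrier := {g | (g : Matrix (Fin m ⊕ Fin m) (Fin m ⊕ Fin m) K).BlockTriangular b ∧
    h3_dg b (g : Matrix (Fin m ⊕ Fin m) (Fin m ⊕ Fin m) K) = 1}
  mul_mem' := by
    rintro x y ⟨hx, hx1⟩ ⟨hy, hy1⟩
    refine ⟨BlockTriangular.mul hx hy, ?_⟩
    rw [h3_coe_mul, h3_dg_mul b hx hy, hx1, hy1, Matrix.mul_one]
  one_mem' := ⟨blockTriangular_one, h3_dg_one b⟩
  inv_mem' := by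
    rintro x ⟨hx, hx1⟩
    have hi := h3_bt_inv b hx
    refine ⟨hi, ?_⟩
    have h1 := h3_dg_mul b hi hx
    rw [coe_inv_mul, h3_dg_one, hx1, Matrix.mul_one] at h1
    exact h1.symm

theorem h3_mem_RB {b : Fin m ⊕ Fin m → ℕ} {g : symplecticGroup (Fin m) K} :
    g ∈ h3_RB K b ↔
      (g : Matrix (Fin m ⊕ Fin m) (Fin m ⊕ Fin m) K).BlockTriangular b ∧
        h3_dg b (g : Matrix (Fin m ⊕ Fin m) (Fin m ⊕ Fin m) K) = 1 := Iff.rfl

/-- Membership in the radical, entrywise. -/
theorem h3_mem_RB_of_entries {b : Fin m ⊕ Fin m → ℕ} {g : symplecticGroup (Fin m) K}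
    (h1 : (g : Matrix (Fin m ⊕ Fin m) (Fin m ⊕ Fin m) K).BlockTriangular b)
    (h2 : ∀ i, (g : Matrix (Fin m ⊕ Fin m) (Fin m ⊕ Fin m) K) i i = 1)
    (h3 : ∀ i j, i ≠ j → b i = b j →
      (g : Matrix (Fin m ⊕ Fin m) (Fin m ⊕ Fin m) K) i j = 0) : g ∈ h3_RB K b := by
  refine ⟨h1, ?_⟩
  ext i j
  rw [h3_dg_apply]
  by_cases hij : i = j
  · subst hij
    rw [if_pos rfl, h2, one_apply_eq]
  · rw [one_apply_ne hij]
    by_cases hb : b i = b j
    · rw [if_pos hb, h3 i j hij hb]
    · rw [if_neg hb]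

theorem h3_RB_entry {b : Fin m ⊕ Fin m → ℕ} {g : symplecticGroup (Fin m) K}
    (hg : g ∈ h3_RB K b) (i j : Fin m ⊕ Fin m) (hb : b i = b j) :
    (g : Matrix (Fin m ⊕ Fin m) (Fin m ⊕ Fin m) K) i j =
      (1 : Matrix (Fin m ⊕ Fin m) (Fin m ⊕ Fin m) K) i j := by
  have h := congrFun (congrFun hg.2 i) j
  rw [h3_dg_apply, if_pos hb] at h
  exact h

/-- The radical is normalised by the block triangular subgroup. -/
theorem h3_RB_normal {b : Fin m ⊕ Fin m → ℕ} {x r : symplecticGroup (Fin m) K}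
    (hx : x ∈ h3_PB K b) (hr : r ∈ h3_RB K b) : x * r * x⁻¹ ∈ h3_RB K b := by
  have hi := h3_bt_inv b hx
  have hxr : ((x * r : symplecticGroup (Fin m) K) :
      Matrix (Fin m ⊕ Fin m) (Fin m ⊕ Fin m) K).BlockTriangular b := BlockTriangular.mul hx hr.1
  refine ⟨BlockTriangular.mul hxr hi, ?_⟩
  rw [h3_coe_mul, h3_dg_mul b hxr hi, h3_coe_mul, h3_dg_mul b hx hr.1, hr.2, Matrix.mul_one,
    ← h3_dg_mul b hx hi, coe_mul_inv, h3_dg_one]

/-- The radical is unitriangular when the labelling is monotone in the order `rho`. -/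
theorem h3_RB_le_Usub {b : Fin m ⊕ Fin m → ℕ}
    (hb : ∀ i j, rho m i ≤ rho m j → b i ≤ b j) : h3_RB K b ≤ Usub K m := by
  intro g hg
  refine ⟨?_, ?_⟩
  · intro i j hji
    have hle := hb j i hji.le
    rcases hle.lt_or_eq with h | h
    · exact hg.1 h
    · have hne : i ≠ j := by
        rintro rfl
        exact lt_irrefl _ hji
      rw [h3_RB_entry hg i j h.symm, one_apply_ne hne]
  · intro i
    rw [h3_RB_entry hg i i rfl, one_apply_eq]

/-- The Borel subgroup is block triangular when the labelling is monotone in the order `rho`. -/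
theorem h3_Bsub_le_PB {b : Fin m ⊕ Fin m → ℕ}
    (hb : ∀ i j, rho m i ≤ rho m j → b i ≤ b j) : Bsub K m ≤ h3_PB K b := by
  intro g hg i j hji
  apply hg
  by_contra h
  rw [not_lt] at h
  exact absurd (hb i j h) (not_le.mpr hji)

end Cfsg.Agent.SpUni
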