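import Mathlib
import Cfsg.Agent.SpUni.H3_Blocks
import Cfsg.Agent.Lead.SpBNE

set_option autoImplicit false

/-!
# The block labelling of a set of generators of `Sp_{2(k+1)}(K)` (helper3, for `S2316`)

For a set `S` of fundamental reflections, `h3_blk S` labels the basis `e₁ < … < e_m < f_m < … < f₁`
by the blocks of the standard parabolic subgroup `P_S`; the monomial matrices of `⟨S⟩ (B ∩ N)`
preserve the blocks, and an element of `U` which is conjugated into `B` by the inverse of such
a monomial matrix, which no generator of `S` lengthens, has identity diagonal blocks.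
-/

namespace Cfsg.Agent.SpUni

open Matrix Cfsg.Agent.Lead.SpFus Cfsg.Agent.Lead.SpBN

variable {k : ℕ}

/-- The positions of the links of the generators in `S`. -/
def h3_lnk (S : Finset (Option (Fin k))) : Finset ℕ :=
  S.image (fun o => rho (k + 1) (pos o).1) ∪ S.image (fun o => rho (k + 1) (pos o).2.swap)

/-- The block labelling. -/
def h3_blk (S : Finset (Option (Fin k))) (a : Fin (k + 1) ⊕ Fin (k + 1)) : ℕ :=
  ((Finset.range (rho (k + 1) a)).filter (fun j => j ∉ h3_lnk S)).card

theorem h3_blk_mono (S : Finset (Option (Fin k))) (i j : Fin (k + 1) ⊕ Fin (k + 1))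
    (h : rho (k + 1) i ≤ rho (k + 1) j) : h3_blk S i ≤ h3_blk S j := by
  unfold h3_blk
  apply Finset.card_le_card
  apply Finset.filter_subset_filter
  exact Finset.range_subset_range.mpr h

theorem h3_blk_succ_eq (S : Finset (Option (Fin k))) {a b : Fin (k + 1) ⊕ Fin (k + 1)}
    (h : rho (k + 1) b = rho (k + 1) a + 1) (hmem : rho (k + 1) a ∈ h3_lnk S) :
    h3_blk S a = h3_blk S b := by
  unfold h3_blk
  rw [h, Finset.range_add_one, Finset.filter_insert, if_neg (not_not.mpr hmem)]

theorem h3_mem_lnk_of_blk_eq (S : Finset (Option (Fin k))) {a b : Fin (k + 1) ⊕ Fin (k + 1)}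
    (h : rho (k + 1) b = rho (k + 1) a + 1) (hb : h3_blk S a = h3_blk S b) :
    rho (k + 1) a ∈ h3_lnk S := by
  by_contra hmem
  unfold h3_blk at hb
  rw [h, Finset.range_add_one, Finset.filter_insert, if_pos hmem,
    Finset.card_insert_of_notMem (by simp)] at hb
  omega

theorem h3_pos_succ (o : Option (Fin k)) :
    rho (k + 1) (pos o).2 = rho (k + 1) (pos o).1 + 1 := by
  rcases o with _ | i
  · change rho (k + 1) (Sum.inr (Fin.last k)) = rho (k + 1) (Sum.inl (Fin.last k)) + 1
    rw [rho_inl, rho_inr, Fin.val_last]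
    omega
  · change rho (k + 1) (Sum.inl i.succ) = rho (k + 1) (Sum.inl i.castSucc) + 1
    rw [rho_inl, rho_inl, Fin.val_succ, Fin.val_castSucc]

theorem h3_pos_swap_succ (o : Option (Fin k)) :
    rho (k + 1) (pos o).1.swap = rho (k + 1) (pos o).2.swap + 1 := by
  rw [rho_swap, rho_swap, h3_pos_succ]
  have := rho_lt (pos o).2
  rw [h3_pos_succ] at this
  omega

theorem h3_blk_pos {S : Finset (Option (Fin k))} {o : Option (Fin k)} (ho : o ∈ S) :
    h3_blk S (pos o).1 = h3_blk S (pos o).2 := by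
  apply h3_blk_succ_eq S (h3_pos_succ o)
  unfold h3_lnk
  exact Finset.mem_union_left _ (Finset.mem_image_of_mem _ ho)

theorem h3_blk_pos_swap {S : Finset (Option (Fin k))} {o : Option (Fin k)} (ho : o ∈ S) :
    h3_blk S (pos o).2.swap = h3_blk S (pos o).1.swap := by
  apply h3_blk_succ_eq S (h3_pos_swap_succ o)
  unfold h3_lnk
  exact Finset.mem_union_right _ (Finset.mem_image_of_mem _ ho)

theorem h3_genPat_swap (o : Option (Fin k)) (a : Fin (k + 1) ⊕ Fin (k + 1)) :
    genPat o a.swap = (genPat o a).swap :=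
  pattern_swap (gen_mono (K := ℚ) o) a

theorem h3_genPat_cases (o : Option (Fin k)) (a : Fin (k + 1) ⊕ Fin (k + 1)) :
    genPat o a = a ∨ a = (pos o).1 ∨ a = (pos o).2 ∨ a = (pos o).1.swap ∨
      a = (pos o).2.swap := by
  rcases o with _ | i
  · change cS (Fin.last k) a = a ∨ a = Sum.inl (Fin.last k) ∨ a = Sum.inr (Fin.last k) ∨ _
    by_cases h1 : a = Sum.inl (Fin.last k)
    · exact Or.inr (Or.inl h1)
    · by_cases h2 : a = Sum.inr (Fin.last k)
      · exact Or.inr (Or.inr (Or.inl h2))
      · left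
        unfold cS
        exact Equiv.swap_apply_of_ne_of_ne h1 h2
  · change pS i a = a ∨ a = Sum.inl i.castSucc ∨ a = Sum.inl i.succ ∨
      a = Sum.inr i.castSucc ∨ a = Sum.inr i.succ
    unfold pS
    rcases a with x | x
    · by_cases h1 : x = i.castSucc
      · exact Or.inr (Or.inl (by rw [h1]))
      · by_cases h2 : x = i.succ
        · exact Or.inr (Or.inr (Or.inl (by rw [h2])))
        · left
          rw [Equiv.sumCongr_apply, Sum.map_inl, Equiv.swap_apply_of_ne_of_ne h1 h2]
    · by_cases h1 : x = i.castSucc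
      · exact Or.inr (Or.inr (Or.inr (Or.inl (by rw [h1]))))
      · by_cases h2 : x = i.succ
        · exact Or.inr (Or.inr (Or.inr (Or.inr (by rw [h2]))))
        · left
          rw [Equiv.sumCongr_apply, Sum.map_inr, Equiv.swap_apply_of_ne_of_ne h1 h2]

/-- The pattern of a generator in `S` preserves the blocks. -/
theorem h3_blk_genPat {S : Finset (Option (Fin k))} {o : Option (Fin k)} (ho : o ∈ S)
    (a : Fin (k + 1) ⊕ Fin (k + 1)) : h3_blk S (genPat o a) = h3_blk S a := by
  rcases h3_genPat_cases o a with h | h | h | h | h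
  · rw [h]
  · rw [h, genPat_pos, h3_blk_pos ho]
  · rw [h, genPat_pos', h3_blk_pos ho]
  · rw [h, h3_genPat_swap, genPat_pos, h3_blk_pos_swap ho]
  · rw [h, h3_genPat_swap, genPat_pos', h3_blk_pos_swap ho]

variable {K : Type*} [Field K]

/-- The monomial symplectic matrices whose pattern preserves the blocks of `S`. -/
def h3_LK (K : Type*) [Field K] {k : ℕ} (S : Finset (Option (Fin k))) :
    Subgroup (symplecticGroup (Fin (k + 1)) K) where
  carrier := {g | ∃ σ : Equiv.Perm (Fin (k + 1) ⊕ Fin (k + 1)),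
    MonoQ σ (g : Matrix (Fin (k + 1) ⊕ Fin (k + 1)) (Fin (k + 1) ⊕ Fin (k + 1)) K) ∧
      ∀ a, h3_blk S (σ a) = h3_blk S a}
  mul_mem' := by
    rintro x y ⟨σ, h1, hσ⟩ ⟨τ, h3, hτ⟩
    exact ⟨σ * τ, h1.mul h3, fun a => by rw [Equiv.Perm.mul_apply, hσ, hτ]⟩
  one_mem' := ⟨1, MonoQ.one, fun _ => rfl⟩
  inv_mem' := by
    rintro x ⟨σ, h1, hσ⟩
    refine ⟨σ⁻¹, mono_inv h1, fun a => ?_⟩
    have := hσ (σ⁻¹ a)
    rw [perm_apply_inv] at this
    exact this.symm

theorem h3_gen_mem_LK {S : Finset (Option (Fin k))} {o : Option (Fin k)} (ho : o ∈ S) :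
    gen K o ∈ h3_LK K S :=
  ⟨genPat o, gen_mono o, h3_blk_genPat ho⟩

theorem h3_inf_le_LK (S : Finset (Option (Fin k))) :
    Bsub K (k + 1) ⊓ Nsub K (k + 1) ≤ h3_LK K S := by
  intro g hg
  exact ⟨1, mono_one_of_mem_inf hg, fun _ => rfl⟩

theorem h3_LK_le_PB (S : Finset (Option (Fin k))) : h3_LK K S ≤ h3_PB K (h3_blk S) := by
  rintro g ⟨σ, h1, hσ⟩ i j hji
  apply h1
  intro e
  rw [e, hσ] at hji
  exact lt_irrefl _ hji

/-- The closure of the generators in `S` together with `B ∩ N` preserves the blocks. -/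
theorem h3_closure_sup_le_LK (S : Finset (Option (Fin k))) :
    Subgroup.closure (gen K '' (S : Set (Option (Fin k)))) ⊔
      (Bsub K (k + 1) ⊓ Nsub K (k + 1)) ≤ h3_LK K S := by
  refine sup_le ?_ (h3_inf_le_LK S)
  rw [Subgroup.closure_le]
  rintro _ ⟨o, ho, rfl⟩
  exact h3_gen_mem_LK (Finset.mem_coe.mp ho)

/-- The standard parabolic subgroup is block triangular. -/
theorem h3_parabolic_le_PB (S : Finset (Option (Fin k))) :
    Bsub K (k + 1) ⊔ Subgroup.closure (gen K '' (S : Set (Option (Fin k)))) ≤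
      h3_PB K (h3_blk S) := by
  refine sup_le (h3_Bsub_le_PB (h3_blk_mono S)) ?_
  rw [Subgroup.closure_le]
  rintro _ ⟨o, ho, rfl⟩
  exact h3_LK_le_PB S (h3_gen_mem_LK (Finset.mem_coe.mp ho))

/-- The key property: the intersection of `U` with the conjugate of `B` by a monomial matrix of
the Levi subgroup, which no generator of `S` lengthens, lies in the radical. -/
theorem h3_T (S : Finset (Option (Fin k))) {n0 u : symplecticGroup (Fin (k + 1)) K}
    (hn : n0 ∈ h3_LK K S)
    (hlen : ∀ o ∈ S, ∃ b ∈ Bsub K (k + 1),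
      gen K o * b * n0 ∉ DoubleCoset.doubleCoset (gen K o * n0)
        (Bsub K (k + 1) : Set (symplecticGroup (Fin (k + 1)) K)) (Bsub K (k + 1)))
    (hu : u ∈ Usub K (k + 1)) (hc : n0⁻¹ * u * n0 ∈ Bsub K (k + 1)) :
    u ∈ h3_RB K (h3_blk S) := by
  obtain ⟨σ, h1, hσ⟩ := hn
  have hτ : ∀ a, h3_blk S (σ⁻¹ a) = h3_blk S a := by
    intro a
    have := hσ (σ⁻¹ a)
    rw [perm_apply_inv] at this
    exact this.symm
  have hinv : ∀ o ∈ S, rho (k + 1) (σ⁻¹ (pos o).2) < rho (k + 1) (σ⁻¹ (pos o).1) := by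
    intro o ho
    by_contra hcon
    rw [not_lt] at hcon
    obtain ⟨b, hb, hnot⟩ := hlen o ho
    rcases hcon.lt_or_eq with hlt | heq
    · exact hnot (mul_mem_of_lt o h1 hlt hb)
    · have e := (σ⁻¹).injective (rho_injective _ heq)
      have hlt := pos_lt o
      rw [e] at hlt
      exact lt_irrefl _ hlt
  have hinv' : ∀ o ∈ S,
      rho (k + 1) (σ⁻¹ (pos o).1.swap) < rho (k + 1) (σ⁻¹ (pos o).2.swap) := by
    intro o ho
    rw [pattern_inv_swap h1, pattern_inv_swap h1, rho_swap_lt]
    exact hinv o ho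
  have hstep : ∀ a b : Fin (k + 1) ⊕ Fin (k + 1), rho (k + 1) b = rho (k + 1) a + 1 →
      h3_blk S a = h3_blk S b → rho (k + 1) (σ⁻¹ b) < rho (k + 1) (σ⁻¹ a) := by
    intro a b hab hblk
    have hmem := h3_mem_lnk_of_blk_eq S hab hblk
    unfold h3_lnk at hmem
    rcases Finset.mem_union.mp hmem with h | h
    · obtain ⟨o, ho, e⟩ := Finset.mem_image.mp h
      have ea : a = (pos o).1 := (rho_injective _ e).symm
      have eb : b = (pos o).2 := by
        apply rho_injective
        rw [hab, h3_pos_succ, ea]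
      rw [ea, eb]
      exact hinv o ho
    · obtain ⟨o, ho, e⟩ := Finset.mem_image.mp h
      have ea : a = (pos o).2.swap := (rho_injective _ e).symm
      have eb : b = (pos o).1.swap := by
        apply rho_injective
        rw [hab, h3_pos_swap_succ, ea]
      rw [ea, eb]
      exact hinv' o ho
  have hrev : ∀ d : ℕ, ∀ a b : Fin (k + 1) ⊕ Fin (k + 1),
      rho (k + 1) b = rho (k + 1) a + d + 1 → h3_blk S a = h3_blk S b →
        rho (k + 1) (σ⁻¹ b) < rho (k + 1) (σ⁻¹ a) := by
    intro d
    induction d with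
    | zero =>
      intro a b hab hblk
      exact hstep a b hab hblk
    | succ d ih =>
      intro a b hab hblk
      have hlt : rho (k + 1) a + d + 1 < 2 * (k + 1) := by
        have := rho_lt b
        omega
      obtain ⟨c, hc'⟩ := exists_rho_eq hlt
      have h1' : h3_blk S a ≤ h3_blk S c := h3_blk_mono S a c (by omega)
      have h2' : h3_blk S c ≤ h3_blk S b := h3_blk_mono S c b (by omega)
      have hac : h3_blk S a = h3_blk S c := le_antisymm h1' (by rw [hblk]; exact h2')
      have hcb : h3_blk S c = h3_blk S b := by rw [← hac]; exact hblk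
      have h3' := ih a c hc' hac
      have h4' := hstep c b (by omega) hcb
      exact h4'.trans h3'
  apply h3_mem_RB_of_entries
  · intro i j hji
    apply hu.1
    by_contra h
    rw [not_lt] at h
    exact absurd (h3_blk_mono S i j h) (not_le.mpr hji)
  · exact hu.2
  · intro i j hij hblk
    rcases lt_or_gt_of_ne (fun e => hij (rho_injective _ e)) with hlt | hgt
    · obtain ⟨d, hd⟩ : ∃ d, rho (k + 1) j = rho (k + 1) i + d + 1 :=
        ⟨rho (k + 1) j - rho (k + 1) i - 1, by omega⟩
      have hr := hrev d i j hd hblk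
      have h3 := hc hr
      rw [conj_inv_apply h1, perm_apply_inv, perm_apply_inv] at h3
      have h4 := sp_entry_ne_zero h1 (σ⁻¹ j)
      rw [perm_apply_inv] at h4
      have h5 := sp_entry_ne_zero (mono_inv h1) i
      rcases mul_eq_zero.mp h3 with h6 | h6
      · rcases mul_eq_zero.mp h6 with h7 | h7
        · exact absurd h7 h5
        · exact h7
      · exact absurd h6 h4
    · exact hu.1 hgt

end Cfsg.Agent.SpUni
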