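import Mathlib
import Cfsg.Agent.SpUni.H3_Levi
import Cfsg.Agent.Lead.SpBNF
import Cfsg.Agent.UnipC.H1_BN
import Cfsg.Agent.Helper8.SpOrder

set_option autoImplicit false

/-!
# Steinberg's count of the `p`-elements of `Sp_{2m}(q)` (helper3, for `S2316`)

The abstract count `Cfsg.Agent.UnipC.h1b_unip_count` (helper1) applied to the `(B, N)`-pair of the
symplectic group (lead), with the radicals of the block triangular subgroups.
-/

namespace Cfsg.Agent.SpUni

open Matrix Cfsg Cfsg.Agent.Lead.SpFus Cfsg.Agent.Lead.SpBN Cfsg.Agent.Helper7.BN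
  Cfsg.Agent.Lead.SteinChar Cfsg.Agent.Lead.SteinBN Cfsg.Agent.ChevUni

universe u

variable {K : Type u} [Field K] {m k : ℕ}

/-- `U` is normalised by `B`. -/
theorem h3_Usub_normal {b u : symplecticGroup (Fin m) K} (hb : b ∈ Bsub K m)
    (hu : u ∈ Usub K m) : b * u * b⁻¹ ∈ Usub K m := by
  have hbi : b⁻¹ ∈ Bsub K m := Subgroup.inv_mem _ hb
  have hbu : b * u ∈ Bsub K m := Subgroup.mul_mem _ hb (Usub_le_Bsub hu)
  refine ⟨(Bsub K m).mul_mem hbu hbi, fun a => ?_⟩
  have e1 := diag_mul_of_upper (K := K) hbu hbi a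
  have e2 := diag_mul_of_upper (K := K) hb (Usub_le_Bsub hu) a
  have e3 := diag_mul_of_upper (K := K) hb hbi a
  rw [coe_mul_inv, one_apply_eq] at e3
  rw [h3_coe_mul, e1, h3_coe_mul, e2, hu.2, mul_one, ← e3]

theorem h3_Usub_inf (u : symplecticGroup (Fin m) K) (hu : u ∈ Usub K m)
    (h : u ∈ Bsub K m ⊓ Nsub K m) : u = 1 := by
  have h1 := mono_one_of_mem_inf h
  apply Subtype.ext
  ext i j
  rw [h3_coe_one]
  by_cases hij : i = j
  · subst hij
    rw [hu.2 i, one_apply_eq]
  · rw [h1 i j (by rwa [Equiv.Perm.one_apply]), one_apply_ne hij]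

/-- The order of the unipotent subgroup. -/
theorem h3_card_Usub [Fintype K] (p : ℕ) [Fact p.Prime] [CharP K p] (k : ℕ) :
    Nat.card (Usub K (k + 1)) = Fintype.card K ^ ((k + 1) ^ 2) := by
  have hp : p.Prime := Fact.out
  obtain ⟨f, -, hq⟩ := FiniteField.card K p
  have h1 := Sylow.card_eq_multiplicity (sylowU K (k + 1) p)
  have hc : Nat.card (sylowU K (k + 1) p) = Nat.card (Usub K (k + 1)) := rfl
  rw [hc] at h1
  rw [h1, Cfsg.Agent.Helper8.SpOrder.card_symp, hq, ← pow_mul]
  have hnd : ¬ p ∣ ∏ i ∈ Finset.range (k + 1), ((p ^ (f : ℕ)) ^ (2 * (i + 1)) - 1) := by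
    rw [Prime.dvd_finsetProd_iff hp.prime]
    rintro ⟨i, -, hi⟩
    have h2 : p ∣ (p ^ (f : ℕ)) ^ (2 * (i + 1)) := by
      rw [← pow_mul]
      apply dvd_pow_self
      have := f.pos
      positivity
    have h3 : 1 ≤ (p ^ (f : ℕ)) ^ (2 * (i + 1)) := Nat.one_le_pow _ _ (Nat.pos_of_ne_zero
      (pow_ne_zero _ hp.ne_zero))
    have h4 := (Nat.dvd_sub_iff_right h3 h2).mp hi
    exact hp.one_lt.ne' (Nat.dvd_one.mp h4)
  have hne : (∏ i ∈ Finset.range (k + 1), ((p ^ (f : ℕ)) ^ (2 * (i + 1)) - 1)) ≠ 0 := by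
    intro e
    rw [e] at hnd
    exact hnd (dvd_zero p)
  rw [Nat.factorization_mul (pow_ne_zero _ hp.ne_zero) hne, Finsupp.add_apply,
    hp.factorization_pow, Finsupp.single_eq_same,
    Nat.factorization_eq_zero_of_not_dvd hnd, add_zero]

/-- The degree of the Steinberg character. -/
theorem h3_St_one [Fintype K] (k : ℕ) :
    St (Finset.univ : Finset (Option (Fin k))) (fun J : Finset (Option (Fin k)) =>
      (spBN K k).parabolic (gen K '' (J : Set (Option (Fin k))))) 1 =
      (Nat.card (Usub K (k + 1)) : ℂ) := by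
  haveI : Fintype (symplecticGroup (Fin (k + 1)) K) := Fintype.ofFinite _
  have himg : gen K '' (((Finset.univ : Finset (Option (Fin k))) : Set (Option (Fin k)))) =
      (spBN K k).S := by
    rw [Finset.coe_univ, Set.image_univ]
    rfl
  have hpar : ∀ J : Finset (Option (Fin k)), J ⊆ Finset.univ →
      (fun J : Finset (Option (Fin k)) =>
        (spBN K k).parabolic (gen K '' (J : Set (Option (Fin k))))) J =
        (spBN K k).parabolic (gen K '' (J : Set (Option (Fin k)))) := fun _ _ => rfl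
  have hn0 : w0 K (k + 1) ∈ (spBN K k).N := w0_mem_Nsub
  have hgood : ∀ o ∈ (Finset.univ : Finset (Option (Fin k))),
      Good (spBN K k) (rr (spBN K k) (gen K) o)
        (rr (spBN K k) (gen K) o * proj (spBN K k) ⟨w0 K (k + 1), hn0⟩) := by
    intro o _
    have hsN : gen K o ∈ (spBN K k).N := gen_mem_Nsub o
    rw [rr_eq (spBN K k) hsN, ← map_mul]
    apply good_of_rep
    intro b hb
    have h1 : MonoQ (genPat o * swp (k + 1))
        ((gen K o * w0 K (k + 1) : symplecticGroup (Fin (k + 1)) K) :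
          Matrix (Fin (k + 1) ⊕ Fin (k + 1)) (Fin (k + 1) ⊕ Fin (k + 1)) K) :=
      (gen_mono o).mul w0_mono
    have hlt : rho (k + 1) ((genPat o * swp (k + 1))⁻¹ (pos o).1) <
        rho (k + 1) ((genPat o * swp (k + 1))⁻¹ (pos o).2) := by
      rw [_root_.mul_inv_rev, genPat_inv, swp_inv, Equiv.Perm.mul_apply, Equiv.Perm.mul_apply,
        genPat_pos, genPat_pos', swp_apply, swp_apply, rho_swap_lt]
      exact pos_lt o
    exact mul_mem_of_lt o h1 hlt hb
  have key := St_apply_B_of_good (spBN K k) (I := Finset.univ) (s := gen K)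
    (par := fun J : Finset (Option (Fin k)) =>
      (spBN K k).parabolic (gen K '' (J : Set (Option (Fin k)))))
    himg hpar ⟨w0 K (k + 1), hn0⟩ hgood 1
  rw [Subgroup.coe_one, fixedPointCharacter_one] at key
  rw [key]
  congr 1
  apply index_eq_card_Usub
  intro b
  exact (mem_stab_inv_proj (spBN K k) ⟨w0 K (k + 1), hn0⟩ b).trans (conj_w0_mem_iff b.2)

/-- Steinberg's count for `Sp_{2(k+1)}(q)`. -/
theorem h3_count_succ [Fintype K] (p : ℕ) [Fact p.Prime] [CharP K p] (k : ℕ) :
    Nat.card {g : symplecticGroup (Fin (k + 1)) K // ∃ j : ℕ, orderOf g = p ^ j} =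
      Fintype.card K ^ (2 * (k + 1) ^ 2) := by
  haveI : Fintype (symplecticGroup (Fin (k + 1)) K) := Fintype.ofFinite _
  have himg : gen K '' (((Finset.univ : Finset (Option (Fin k))) : Set (Option (Fin k)))) =
      (spBN K k).S := by
    rw [Finset.coe_univ, Set.image_univ]
    rfl
  have hmain := Cfsg.Agent.UnipC.h1b_unip_count (spBN K k) (I := Finset.univ) (s := gen K) himg p
    (Usub K (k + 1)) (sylowU K (k + 1) p) (coe_sylowU p) Usub_le_Bsub
    (fun b hb u hu => h3_Usub_normal hb hu)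
    (by
      rw [eq_bot_iff]
      intro u hu
      rw [Subgroup.mem_bot]
      exact h3_Usub_inf u hu.1 hu.2)
    (by
      intro b hb
      obtain ⟨u, hu, a, hua⟩ := exists_unip_tor_of_mem_Bsub hb
      exact ⟨u, hu, tor a, mem_inf_of_mono_one (tor_mono a), hua⟩)
    (fun S => h3_RB K (h3_blk S))
    (fun S _ => h3_RB_le_Usub (h3_blk_mono S))
    (fun S _ x hx r hr => h3_RB_normal (h3_parabolic_le_PB S hx) hr)
    (fun S _ n0 hn0 hlen u hu hc => h3_T S (h3_closure_sup_le_LK S hn0) hlen hu hc)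
  have hst : St (Finset.univ : Finset (Option (Fin k)))
      (fun S => (spBN K k).parabolic (l_J (gen K) S)) 1 =
      (Nat.card (Usub K (k + 1)) : ℂ) := h3_St_one k
  rw [hst, h3_card_Usub p k] at hmain
  have h2 : (Fintype.card K : ℕ) ^ (2 * (k + 1) ^ 2) =
      Fintype.card K ^ ((k + 1) ^ 2) * Fintype.card K ^ ((k + 1) ^ 2) := by
    rw [← pow_add, two_mul]
  rw [h2]
  exact_mod_cast hmain

/-- Steinberg's count for `Sp_{2m}(q)`. -/
theorem h3_count [Fintype K] (p : ℕ) [Fact p.Prime] [CharP K p] (m : ℕ) :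
    Nat.card {g : symplecticGroup (Fin m) K // ∃ j : ℕ, orderOf g = p ^ j} =
      Fintype.card K ^ (2 * m ^ 2) := by
  rcases m with _ | k
  · have hsub : Subsingleton (symplecticGroup (Fin 0) K) :=
      ⟨fun a b => Subtype.ext (Subsingleton.elim _ _)⟩
    have hsub' : Subsingleton {g : symplecticGroup (Fin 0) K // ∃ j : ℕ, orderOf g = p ^ j} :=
      ⟨fun a b => Subtype.ext (Subsingleton.elim _ _)⟩
    have hne : Nonempty {g : symplecticGroup (Fin 0) K // ∃ j : ℕ, orderOf g = p ^ j} :=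
      ⟨⟨1, 0, by rw [orderOf_one, pow_zero]⟩⟩
    rw [Nat.card_eq_one_iff_unique.mpr ⟨hsub', hne⟩]
    simp
  · exact h3_count_succ p k

end Cfsg.Agent.SpUni
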